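import Mathlib.RingTheory.Length
import Mathlib.RingTheory.LocalRing.ResidueField.Basic
import Mathlib.RingTheory.SimpleModule.Basic
import Mathlib.RingTheory.FiniteLength

/-!
Lengths under restriction of scalars to a ring, from a local ring.
-/

universe u

set_option autoImplicit false

namespace Groth.Calg6.PushSheafCyc

open IsLocalRing

/-- For a local ring `B` over `A` and a `B`-module of finite length, the `A`-length is the `B`-length
times the `A`-length of the residue field. -/
theorem length_restrict {A B : Type u} [CommRing A] [CommRing B] [IsLocalRing B] [Algebra A B]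
    (X : Type u) [AddCommGroup X] [Module A X] [Module B X] [IsScalarTower A B X]
    (hX : IsFiniteLength B X) :
    Module.length A X = Module.length B X * Module.length A (ResidueField B) := by
  suffices ∀ (Y : Type u) [AddCommGroup Y] [Module B Y], IsFiniteLength B Y →
      ∀ [Module A Y] [IsScalarTower A B Y],
        Module.length A Y = Module.length B Y * Module.length A (ResidueField B) from this X hX
  intro Y _ _ hY
  induction hY with
  | of_subsingleton => intro _ _; rw [Module.length_eq_zero, Module.length_eq_zero, zero_mul]
  | @of_simple_quotient Y _ _ N _ _ ih =>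
    intro _ _
    obtain ⟨I, hI, ⟨e⟩⟩ := isSimpleModule_iff_quot_maximal.mp (‹IsSimpleModule B (Y ⧸ N)›)
    obtain rfl := IsLocalRing.eq_maximalIdeal hI
    rw [Module.length_eq_add_of_exact N.subtype N.mkQ N.injective_subtype N.mkQ_surjective
        (LinearMap.exact_subtype_mkQ N),
      Module.length_eq_add_of_exact (N.subtype.restrictScalars A) (N.mkQ.restrictScalars A)
        N.injective_subtype N.mkQ_surjective (LinearMap.exact_subtype_mkQ N), ih,
      Module.length_eq_one B (Y ⧸ N), add_mul, one_mul]
    congr 1
    exact (e.restrictScalars A).length_eq

end Groth.Calg6.PushSheafCyc
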