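import Groth.Agent.Cycles.PushCyc
import Groth.Agent.CohTwo.PushStalkModule
import Groth.Agent.CohTwo.SupportLocal
import Mathlib.AlgebraicGeometry.Morphisms.Proper

/-!
The stalk of a direct image along a closed map, for a module whose support meets the fibre in
finitely many generic points of the support: it is the product of the stalks.
-/

universe u

set_option autoImplicit false

open CategoryTheory AlgebraicGeometry TopologicalSpace Opposite

namespace Groth.Calg6.PushSheafCyc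

variable {X Y : Scheme.{u}}

/-- In a quasi-compact open of a locally Noetherian scheme a closed set is covered by the closures
of finitely many of its points. -/
theorem exists_finite_generic [IsLocallyNoetherian X] {Z : Set X} (hZ : IsClosed Z) (W : X.Opens)
    (hW : IsCompact (W : Set X)) :
    ∃ G : Set X, G.Finite ∧ G ⊆ Z ∧ ∀ z ∈ Z, z ∈ W → ∃ g ∈ G, g ⤳ z := by
  have : IsNoetherian W.toScheme := by
    have : CompactSpace W.toScheme := isCompact_iff_compactSpace.mp hW
    exact {}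
  obtain ⟨S, hfin, hcl, hirr, heq⟩ :=
    NoetherianSpace.exists_finite_set_isClosed_irreducible (hZ.preimage W.ι.continuous)
  choose η hη using fun t : S => QuasiSober.sober (hirr t.1 t.2) (hcl t.1 t.2)
  have := hfin.to_subtype
  refine ⟨Set.range fun t => W.ι (η t), Set.finite_range _, ?_, fun z hz hzW => ?_⟩
  · rintro _ ⟨t, rfl⟩
    have : η t ∈ W.ι ⁻¹' Z := heq ▸ ⟨t.1, t.2, (hη t).mem⟩
    exact this
  · have h1 : (⟨z, hzW⟩ : W.toScheme) ∈ W.ι ⁻¹' Z := hz
    rw [heq] at h1
    obtain ⟨t, ht, hzt⟩ := h1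
    exact ⟨_, ⟨⟨t, ht⟩, rfl⟩, ((hη ⟨t, ht⟩).specializes hzt).map W.ι.continuous⟩

variable (f : X ⟶ Y)

/-- The local ring map at a point over `y`. -/
noncomputable def psi {x : X} {y : Y} (h : f x = y) : Y.presheaf.stalk y →+* X.presheaf.stalk x :=
  (f.stalkMap x).hom.comp (Y.presheaf.stalkSpecializes (specializes_of_eq h)).hom

/-- The map from the stalk of the direct image to the stalk at a point over `y`. -/
noncomputable def fibGerm (F : X.Modules) {x : X} {y : Y} (h : f x = y) :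
    ↑(((Scheme.Modules.pushforward f).obj F).presheaf.stalk y) →+ ↑(F.presheaf.stalk x) :=
  (Groth.CohTwo.pushStalk f F x).comp
    (((Scheme.Modules.pushforward f).obj F).presheaf.stalkSpecializes (specializes_of_eq h)).hom

theorem fibGerm_germ (F : X.Modules) {x : X} {y : Y} (h : f x = y) {U : Y.Opens} (hU : y ∈ U)
    (s : Γ((Scheme.Modules.pushforward f).obj F, U)) :
    fibGerm f F h (((Scheme.Modules.pushforward f).obj F).presheaf.germ U y hU s) =
      F.presheaf.germ (f ⁻¹ᵁ U) x (show f x ∈ U by rw [h]; exact hU) (show Γ(F, f ⁻¹ᵁ U) from s) := by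
  subst h
  simp only [fibGerm, AddMonoidHom.comp_apply]
  erw [TopCat.Presheaf.germ_stalkSpecializes_apply]
  exact Groth.CohTwo.pushStalk_germ f F x hU s

theorem fibGerm_smul (F : X.Modules) {x : X} {y : Y} (h : f x = y) (a : Y.presheaf.stalk y)
    (t : ↑(((Scheme.Modules.pushforward f).obj F).presheaf.stalk y)) :
    fibGerm f F h (a • t) = psi f h a • fibGerm f F h t := by
  subst h
  have h1 : ∀ u : ↑(((Scheme.Modules.pushforward f).obj F).presheaf.stalk (f x)),
      fibGerm f F (rfl : f x = f x) u = Groth.CohTwo.pushStalk f F x u := fun u => by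
    simp only [fibGerm, AddMonoidHom.comp_apply, TopCat.Presheaf.stalkSpecializes_refl]
    rfl
  have h2 : psi f (rfl : f x = f x) a = f.stalkMap x a := by
    simp only [psi, RingHom.comp_apply, TopCat.Presheaf.stalkSpecializes_refl]
    rfl
  rw [h1, h1, h2]
  exact Groth.CohTwo.pushStalk_smul f F x a t

/-- Sections with subsingleton stalks everywhere form a subsingleton. -/
theorem subsingleton_sections (F : X.Modules) (U : X.Opens)
    (h : ∀ z ∈ U, Subsingleton ↑(F.presheaf.stalk z)) : Subsingleton Γ(F, U) :=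
  ⟨fun a b => TopCat.Presheaf.section_ext ⟨F.presheaf, F.isSheaf⟩ U a b fun z hz =>
    @Subsingleton.elim _ (h z hz) _ _⟩

variable [IsProper f] (F : X.Modules)

theorem exists_nhd_preimage_le {y : Y} (Ω : X.Opens) (hΩ : ∀ x, f x = y → x ∈ Ω) :
    ∃ V : Y.Opens, y ∈ V ∧ f ⁻¹ᵁ V ≤ Ω := by
  refine ⟨⟨(f '' (Ω : Set X)ᶜ)ᶜ, (f.isClosedMap _ Ω.2.isClosed_compl).isOpen_compl⟩, ?_, fun x hx => ?_⟩
  · rintro ⟨x, hx, rfl⟩
    exact hx (hΩ x rfl)
  · by_contra h
    exact hx ⟨x, h, rfl⟩

variable [IsLocallyNoetherian X] {y : Y} (s : Finset X) (hs : ∀ x : s, f x.1 = y)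

/-- The stalk of the direct image maps bijectively to the product of the stalks. -/
theorem bijective_fibGerm (hF : Coh.IsCoh F)
    (hgen : ∀ x : s, ∀ z : X, Nontrivial (F.presheaf.stalk z) → z ⤳ x.1 → z = x.1)
    (hout : ∀ x : X, f x = y → x ∉ s → Subsingleton (F.presheaf.stalk x)) :
    Function.Bijective fun t => fun x : s => fibGerm f F (hs x) t := by
  classical
  constructor
  · intro a b hab
    rw [← sub_eq_zero]
    have hz : ∀ x : s, fibGerm f F (hs x) (a - b) = 0 := fun x => by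
      rw [map_sub, sub_eq_zero]; exact congrFun hab x
    obtain ⟨U, hU, c, hc⟩ := Groth.QCohMod.exists_germ _ y (a - b)
    rw [← hc] at hz ⊢
    have key : ∀ x : {x : X // f x = y}, ∃ (Ω : X.Opens) (hle : Ω ≤ f ⁻¹ᵁ U), x.1 ∈ Ω ∧
        F.presheaf.map (homOfLE hle).op (show Γ(F, f ⁻¹ᵁ U) from c) = 0 := by
      rintro ⟨x, hx⟩
      have hxU : x ∈ f ⁻¹ᵁ U := show f x ∈ U by rw [hx]; exact hU
      have h0 : F.presheaf.germ (f ⁻¹ᵁ U) x hxU (show Γ(F, f ⁻¹ᵁ U) from c) = 0 := by
        by_cases hxs : x ∈ s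
        · rw [← fibGerm_germ f F hx hU c]; exact hz ⟨x, hxs⟩
        · exact @Subsingleton.elim _ (hout x hx hxs) _ _
      rw [← map_zero (F.presheaf.germ (f ⁻¹ᵁ U) x hxU).hom] at h0
      obtain ⟨Ω, hΩ, i, j, e⟩ := F.presheaf.germ_eq x hxU hxU _ _ h0
      refine ⟨Ω, i.le, hΩ, ?_⟩
      rw [show (homOfLE i.le) = i from Subsingleton.elim _ _]
      exact e.trans (map_zero _)
    choose Ω hle hmem hzero using key
    obtain ⟨V, hyV, hVle⟩ := exists_nhd_preimage_le f (y := y) (⨆ x, Ω x) fun x hx =>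
      Opens.mem_iSup.2 ⟨⟨x, hx⟩, hmem ⟨x, hx⟩⟩
    rw [← Groth.QCohMod.germ_res _ (inf_le_right : V ⊓ U ≤ U) y ⟨hyV, hU⟩ c]
    have : Groth.QCohMod.res ((Scheme.Modules.pushforward f).obj F) (inf_le_right : V ⊓ U ≤ U) c = 0 := by
      refine TopCat.Presheaf.section_ext ⟨F.presheaf, F.isSheaf⟩ (f ⁻¹ᵁ (V ⊓ U))
        (show Γ(F, f ⁻¹ᵁ (V ⊓ U)) from
          Groth.QCohMod.res ((Scheme.Modules.pushforward f).obj F) (inf_le_right : V ⊓ U ≤ U) c) 0 fun z hzV => ?_
      obtain ⟨x, hx⟩ := Opens.mem_iSup.1 (hVle (show z ∈ f ⁻¹ᵁ V from hzV.1))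
      have e1 := TopCat.Presheaf.germ_res_apply F.presheaf
        (homOfLE (show f ⁻¹ᵁ (V ⊓ U) ≤ f ⁻¹ᵁ U from fun w hw => hw.2)) z hzV (show Γ(F, f ⁻¹ᵁ U) from c)
      have e2 := TopCat.Presheaf.germ_res_apply F.presheaf (homOfLE (hle x)) z hx (show Γ(F, f ⁻¹ᵁ U) from c)
      rw [hzero x, map_zero] at e2
      rw [map_zero]
      exact e1.trans e2.symm
    rw [this, map_zero]
  · intro t
    obtain ⟨_, ⟨V₀, hV₀, rfl⟩, hyV₀, -⟩ :=
      Y.isBasis_affineOpens.exists_subset_of_mem_open (Set.mem_univ y) isOpen_univ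
    have hZ : IsClosed (CohB1.support F) := Groth.CohTwo.isClosed_support F hF
    obtain ⟨G, hGfin, hGZ, hG⟩ := exists_finite_generic hZ (f ⁻¹ᵁ V₀) (f.isCompact_preimage hV₀.isCompact)
    let N : s → X.Opens := fun x =>
      ⟨(f ⁻¹ᵁ V₀ : Set X) \ ⋃ g ∈ G \ {x.1}, closure {g},
        (f ⁻¹ᵁ V₀).2.sdiff ((hGfin.subset Set.sdiff_subset).isClosed_biUnion fun _ _ => isClosed_closure)⟩
    have hN : ∀ x : s, x.1 ∈ N x := fun x => by
      refine ⟨show f x.1 ∈ V₀ by rw [hs x]; exact hyV₀, ?_⟩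
      simp only [Set.mem_iUnion, not_exists]
      rintro g ⟨hg, hne⟩ hc
      exact hne (hgen x g (not_subsingleton_iff_nontrivial.mp (hGZ hg)) (specializes_iff_mem_closure.mpr hc))
    have hdis : ∀ x x' : s, ∀ z, z ∈ CohB1.support F → z ∈ N x → z ∈ N x' → x = x' := fun x x' z hz h h' => by
      obtain ⟨g, hg, hgz⟩ := hG z hz h.1
      have aux : ∀ w : s, z ∈ N w → g = w.1 := fun w hw => by
        by_contra hne
        exact hw.2 (Set.mem_biUnion (show g ∈ G \ {w.1} from ⟨hg, hne⟩) hgz.mem_closure)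
      exact Subtype.ext ((aux x h).symm.trans (aux x' h'))
    have key : ∀ x : s, ∃ (U : X.Opens) (_ : U ≤ N x) (hx : x.1 ∈ U) (c : Γ(F, U)),
        F.presheaf.germ U x.1 hx c = t x := fun x => by
      obtain ⟨U, hU, c, hc⟩ := Groth.QCohMod.exists_germ F x.1 (t x)
      exact ⟨U ⊓ N x, inf_le_right, ⟨hU, hN x⟩, Groth.QCohMod.res F inf_le_left c,
        (Groth.QCohMod.germ_res F inf_le_left x.1 ⟨hU, hN x⟩ c).trans hc⟩
    choose U hUN hxU c hc using key
    let O : Option s → X.Opens := fun i => i.elim ⟨(CohB1.support F)ᶜ, hZ.isOpen_compl⟩ U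
    let sec : ∀ i : Option s, Γ(F, O i) := fun i => i.rec 0 c
    have hcomp : TopCat.Presheaf.IsCompatible F.presheaf O sec := fun i j => by
      by_cases hij : i = j
      · subst hij; rfl
      · refine @Subsingleton.elim _ (subsingleton_sections F _ fun z hz => ?_) _ _
        by_contra hzZ
        match i, j with
        | none, _ => exact hz.1 hzZ
        | some x, none => exact hz.2 hzZ
        | some x, some x' => exact hij (congrArg some (hdis x x' z hzZ (hUN x hz.1) (hUN x' hz.2)))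
    obtain ⟨w, hw, -⟩ := TopCat.Sheaf.existsUnique_gluing (F := ⟨F.presheaf, F.isSheaf⟩) O sec hcomp
    obtain ⟨V, hyV, hVle⟩ := exists_nhd_preimage_le f (y := y) (iSup O) fun x hx => by
      by_cases hxs : x ∈ s
      · exact Opens.mem_iSup.2 ⟨some ⟨x, hxs⟩, hxU ⟨x, hxs⟩⟩
      · exact Opens.mem_iSup.2 ⟨none, fun h => h (hout x hx hxs)⟩
    refine ⟨((Scheme.Modules.pushforward f).obj F).presheaf.germ V y hyV
      (show Γ((Scheme.Modules.pushforward f).obj F, V) from F.presheaf.map (homOfLE hVle).op w), funext fun x => ?_⟩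
    simp only
    rw [fibGerm_germ, ← hc x]
    refine (TopCat.Presheaf.germ_res_apply F.presheaf (homOfLE hVle) x.1 _ w).trans ?_
    rw [show c x = F.presheaf.map (Opens.leSupr O (some x)).op w from (hw (some x)).symm]
    exact (TopCat.Presheaf.germ_res_apply F.presheaf (Opens.leSupr O (some x)) x.1 (hxU x) w).symm

end Groth.Calg6.PushSheafCyc
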